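import Mathlib
import Cfsg.Prelude.Def_ClassicalGeometry
import Cfsg.Agent.ClGeo.FinField

set_option autoImplicit false

/-! The Hermitian form `Cfsg.hermForm n F q` when `|F| = q^2`. -/

namespace Cfsg.Agent.ClGeo

open Matrix

section
variable {F : Type*} [Field F] [Fintype F] {q : ℕ}

theorem exists_frob (hF : Fintype.card F = q ^ 2) :
    ∃ σ : F →+* F, (∀ x, σ x = x ^ q) ∧ (∀ x, σ (σ x) = x) ∧ σ ≠ RingHom.id F := by
  obtain ⟨p, hp⟩ := CharP.exists F
  obtain ⟨n, hpp, hn⟩ := FiniteField.card F p
  have hq1 := one_lt_of_card_eq_sq hF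
  have : Fact p.Prime := ⟨hpp⟩
  have hdvd : q ∣ p ^ (n : ℕ) := by
    rw [← hn, hF]; exact Dvd.intro_left (q ^ 1) (by ring)
  obtain ⟨j, -, hj⟩ := (Nat.dvd_prime_pow hpp).1 hdvd
  refine ⟨iterateFrobenius F p j, ?_, ?_, ?_⟩
  · intro x
    rw [iterateFrobenius_def, ← hj]
  · intro x
    rw [iterateFrobenius_def, iterateFrobenius_def, ← hj, ← pow_mul, ← sq, ← hF, FiniteField.pow_card]
  · intro h
    -- X^q = X for all x, too many roots
    have h1 : ∀ x : F, x ^ q = x := by
      intro x
      have := RingHom.congr_fun h x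
      rw [iterateFrobenius_def, ← hj] at this
      simpa using this
    classical
    have hcard : Fintype.card F ≤ q := by
      have hne : (Polynomial.X ^ q - Polynomial.X : Polynomial F) ≠ 0 :=
        FiniteField.X_pow_card_sub_X_ne_zero F hq1
      have hroots : (Finset.univ : Finset F).val ≤ (Polynomial.X ^ q - Polynomial.X : Polynomial F).roots := by
        rw [Multiset.le_iff_subset (Finset.nodup _)]
        intro x _
        rw [Polynomial.mem_roots hne]
        simp [h1 x]
      have h2 := Multiset.card_le_card hroots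
      have h3 := Polynomial.card_roots' (Polynomial.X ^ q - Polynomial.X : Polynomial F)
      rw [FiniteField.X_pow_card_sub_X_natDegree_eq F hq1] at h3
      have h4 : Multiset.card (Finset.univ : Finset F).val = Fintype.card F := rfl
      omega
    rw [hF] at hcard
    nlinarith

/-- The field automorphism `x ↦ x ^ q` of order two. -/
noncomputable def frob (hF : Fintype.card F = q ^ 2) : F →+* F := (exists_frob hF).choose

theorem frob_apply (hF : Fintype.card F = q ^ 2) (x : F) : frob hF x = x ^ q :=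
  (exists_frob hF).choose_spec.1 x

theorem frob_frob (hF : Fintype.card F = q ^ 2) (x : F) : frob hF (frob hF x) = x :=
  (exists_frob hF).choose_spec.2.1 x

theorem frob_ne_id (hF : Fintype.card F = q ^ 2) : frob hF ≠ RingHom.id F :=
  (exists_frob hF).choose_spec.2.2

theorem add_pow_q (hF : Fintype.card F = q ^ 2) (x y : F) : (x + y) ^ q = x ^ q + y ^ q := by
  rw [← frob_apply hF, ← frob_apply hF, ← frob_apply hF, map_add]

theorem sub_pow_q (hF : Fintype.card F = q ^ 2) (x y : F) : (x - y) ^ q = x ^ q - y ^ q := by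
  rw [← frob_apply hF, ← frob_apply hF, ← frob_apply hF, map_sub]

theorem neg_pow_q (hF : Fintype.card F = q ^ 2) (x : F) : (-x) ^ q = -x ^ q := by
  rw [← frob_apply hF, ← frob_apply hF, map_neg]

theorem pow_q_pow_q (hF : Fintype.card F = q ^ 2) (x : F) : (x ^ q) ^ q = x := by
  rw [← frob_apply hF, ← frob_apply hF, frob_frob]

theorem sum_pow_q (hF : Fintype.card F = q ^ 2) {ι : Type*} (s : Finset ι) (f : ι → F) :
    (∑ i ∈ s, f i) ^ q = ∑ i ∈ s, f i ^ q := by
  rw [← frob_apply hF, map_sum]
  exact Finset.sum_congr rfl fun i _ => frob_apply hF _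

variable {n : ℕ}

omit [Fintype F] in
theorem hermForm_eq_dot (u v : Fin n → F) :
    Cfsg.hermForm n F q u v = u ⬝ᵥ fun j => v j ^ q := rfl

omit [Fintype F] in
theorem hermForm_add_left (u u' v : Fin n → F) :
    Cfsg.hermForm n F q (u + u') v = Cfsg.hermForm n F q u v + Cfsg.hermForm n F q u' v := by
  rw [hermForm_eq_dot, add_dotProduct]; rfl

omit [Fintype F] in
theorem hermForm_sub_left (u u' v : Fin n → F) :
    Cfsg.hermForm n F q (u - u') v = Cfsg.hermForm n F q u v - Cfsg.hermForm n F q u' v := by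
  rw [hermForm_eq_dot, sub_dotProduct]; rfl

omit [Fintype F] in
theorem hermForm_smul_left (a : F) (u v : Fin n → F) :
    Cfsg.hermForm n F q (a • u) v = a * Cfsg.hermForm n F q u v := by
  rw [hermForm_eq_dot, smul_dotProduct]; rfl

omit [Fintype F] in
theorem hermForm_zero_left (v : Fin n → F) : Cfsg.hermForm n F q 0 v = 0 := by
  rw [hermForm_eq_dot, zero_dotProduct]

theorem hermForm_pow (hF : Fintype.card F = q ^ 2) (u v : Fin n → F) :
    (Cfsg.hermForm n F q u v) ^ q = Cfsg.hermForm n F q v u := by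
  unfold Cfsg.hermForm
  rw [sum_pow_q hF]
  refine Finset.sum_congr rfl fun i _ => ?_
  rw [mul_pow, pow_q_pow_q hF, mul_comm]

theorem hermForm_add_right (hF : Fintype.card F = q ^ 2) (u v v' : Fin n → F) :
    Cfsg.hermForm n F q u (v + v') = Cfsg.hermForm n F q u v + Cfsg.hermForm n F q u v' := by
  rw [← hermForm_pow hF, hermForm_add_left, add_pow_q hF, hermForm_pow hF, hermForm_pow hF]

theorem hermForm_sub_right (hF : Fintype.card F = q ^ 2) (u v v' : Fin n → F) :
    Cfsg.hermForm n F q u (v - v') = Cfsg.hermForm n F q u v - Cfsg.hermForm n F q u v' := by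
  rw [← hermForm_pow hF, hermForm_sub_left, sub_pow_q hF, hermForm_pow hF, hermForm_pow hF]

theorem hermForm_smul_right (hF : Fintype.card F = q ^ 2) (a : F) (u v : Fin n → F) :
    Cfsg.hermForm n F q u (a • v) = a ^ q * Cfsg.hermForm n F q u v := by
  rw [← hermForm_pow hF, hermForm_smul_left, mul_pow, hermForm_pow hF]

theorem hermForm_zero_right (hF : Fintype.card F = q ^ 2) (v : Fin n → F) :
    Cfsg.hermForm n F q v 0 = 0 := by
  rw [← hermForm_pow hF, hermForm_zero_left, zero_pow]
  have := one_lt_of_card_eq_sq hF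
  omega

theorem hermForm_nondeg_right (hF : Fintype.card F = q ^ 2) (v : Fin n → F)
    (h : ∀ u, Cfsg.hermForm n F q u v = 0) : v = 0 := by
  funext i
  have h1 := h (Pi.single i 1)
  rw [hermForm_eq_dot, single_dotProduct, one_mul] at h1
  have hq : q ≠ 0 := by
    have := one_lt_of_card_eq_sq hF
    omega
  exact (pow_eq_zero_iff hq).1 h1

theorem hermForm_nondeg_left (hF : Fintype.card F = q ^ 2) (u : Fin n → F)
    (h : ∀ v, Cfsg.hermForm n F q u v = 0) : u = 0 := by
  apply hermForm_nondeg_right hF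
  intro v
  rw [← hermForm_pow hF, h, zero_pow]
  have := one_lt_of_card_eq_sq hF
  omega

omit [Fintype F] in
theorem unitaryTransvection_mulVec (v : Fin n → F) (c : F) (x : Fin n → F) :
    Cfsg.unitaryTransvection n q v c *ᵥ x = x + (c * Cfsg.hermForm n F q x v) • v := by
  unfold Cfsg.unitaryTransvection
  rw [Matrix.add_mulVec, Matrix.one_mulVec, Matrix.smul_mulVec, Matrix.vecMulVec_mulVec,
    hermForm_eq_dot, dotProduct_comm, mul_smul]
  simp

end

end Cfsg.Agent.ClGeo
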